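import Cfsg.Agent.Lib.OutSol32.Basic
import Cfsg.Agent.Lib.Resistant67.Basic
import Cfsg.Agent.Lib.Signalizer.CoreFixed
import Cfsg.Agent.Lib.Spectrum.SL25Recognition

/-!
# Reduction of the solvability of the automorphisms induced on a Sylow 2-subgroup

`R` is the group induced on `S` by the stabiliser of `S` in `Aut G`; it is mapped to the
automorphisms of a characteristic section, with a 2-group kernel.
-/

set_option autoImplicit false
set_option linter.style.haveILetI false

namespace Cfsg.Agent.Lib.OutSol3066.Reduce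

open Cfsg.Agent.Lib.OutSol32.Basic (stab restrict)

universe u

variable {G : Type u} [Group G] [Finite G]

theorem finite_mulAut (V : Type*) [Group V] [Finite V] : Finite (MulAut V) :=
  Finite.of_injective (fun φ : MulAut V => (φ : V → V)) DFunLike.coe_injective

/-- Restriction of the normaliser and its image under a homomorphism. -/
def normImage (S : Subgroup G) {X : Type*} [Group X] (f : MulAut S →* X) : Subgroup X :=
  (f.comp S.normalizerMonoidHom).range

omit [Finite G] in
theorem normImage_le (S : Subgroup G) {X : Type*} [Group X] (f : MulAut S →* X) :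
    normImage S f ≤ (restrict S).range.map f := by
  rintro _ ⟨n, rfl⟩
  exact Subgroup.mem_map.2 ⟨_, ⟨⟨MulAut.conj (n : G), fun x => by
    rw [MulAut.conj_apply]; exact (Subgroup.mem_normalizer_iff.1 n.2 x).symm⟩, rfl⟩,
    congrArg f (MulEquiv.ext fun _ => rfl)⟩

omit [Finite G] in
theorem normImage_normal (S : Subgroup G) {X : Type*} [Group X] (f : MulAut S →* X) :
    ∀ r ∈ (restrict S).range.map f, ∀ d ∈ normImage S f, r * d * r⁻¹ ∈ normImage S f := by
  rintro _ ⟨_, ⟨φ, rfl⟩, rfl⟩ _ ⟨n, rfl⟩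
  have hn : φ.1 (n : G) ∈ Subgroup.normalizer (S : Set G) := Subgroup.mem_normalizer_iff.2 fun x => by
    obtain ⟨y, rfl⟩ := φ.1.surjective x
    rw [← map_inv, ← map_mul, ← map_mul]
    exact (φ.2 y).trans ((Subgroup.mem_normalizer_iff.1 n.2 y).trans (φ.2 _).symm)
  refine ⟨⟨_, hn⟩, ?_⟩
  show f (S.normalizerMonoidHom ⟨_, hn⟩) = _
  rw [MonoidHom.comp_apply, ← map_inv, ← map_mul, ← map_mul]
  congr 1
  refine MulEquiv.ext fun x => Subtype.ext ?_
  show φ.1 (n : G) * (x : G) * (φ.1 (n : G))⁻¹ = φ.1 ((n : G) * φ.1⁻¹ (x : G) * (n : G)⁻¹)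
  rw [map_mul, map_mul, map_inv, MulAut.apply_inv_self]

/-- The image of the normaliser has odd order when `S` acts trivially. -/
theorem normImage_odd (S : Sylow 2 G) {X : Type*} [Group X] [Finite X]
    (f : MulAut (S : Subgroup G) →* X)
    (htriv : ∀ n : Subgroup.normalizer ((S : Subgroup G) : Set G), (n : G) ∈ (S : Subgroup G) →
      f ((S : Subgroup G).normalizerMonoidHom n) = 1) :
    Odd (Nat.card (normImage (S : Subgroup G) f)) := by
  haveI : Fact (Nat.Prime 2) := ⟨Nat.prime_two⟩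
  set N := Subgroup.normalizer ((S : Subgroup G) : Set G)
  have hodd : Odd ((S : Subgroup G).subgroupOf N).index := by
    refine Nat.not_even_iff_odd.1 fun he => S.not_dvd_index ?_
    exact dvd_trans he.two_dvd (Subgroup.relIndex_dvd_index_of_le Subgroup.le_normalizer)
  rw [normImage, ← Subgroup.index_ker]
  exact hodd.of_dvd_nat (Subgroup.index_dvd_of_le fun n hn => htriv n hn)

/-- Solvability from the image under a map with a 2-group kernel. -/
theorem isSolvable_of_map (S : Sylow 2 G) {X : Type*} [Group X] (f : MulAut (S : Subgroup G) →* X)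
    (hker : ∀ φ : MulAut (S : Subgroup G), f φ = 1 → Odd (orderOf φ) → φ = 1)
    (h : Group.IsSolvable ↥((restrict (S : Subgroup G)).range.map f)) :
    Group.IsSolvable ↥(restrict (S : Subgroup G)).range := by
  haveI : Fact (Nat.Prime 2) := ⟨Nat.prime_two⟩
  haveI := finite_mulAut (S : Subgroup G)
  haveI := h
  set R := (restrict (S : Subgroup G)).range
  set g : R →* R.map f := MonoidHom.mk' (fun r => ⟨f r.1, Subgroup.mem_map_of_mem f r.2⟩)
    fun a b => Subtype.ext (map_mul f a.1 b.1) with hg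
  have hp : IsPGroup 2 g.ker := by
    intro x
    obtain ⟨k, m, hm, hord⟩ := Nat.exists_eq_two_pow_mul_odd (orderOf_pos x).ne'
    refine ⟨k, ?_⟩
    have h1 : f ((x.1 : R) : MulAut (S : Subgroup G)) = 1 := congrArg Subtype.val (MonoidHom.mem_ker.1 x.2)
    have h2 : (((x ^ 2 ^ k).1 : R) : MulAut (S : Subgroup G)) = 1 := by
      refine hker _ ?_ ?_
      · simp only [SubmonoidClass.coe_pow, map_pow, h1, one_pow]
      · rw [Subgroup.orderOf_coe, Subgroup.orderOf_coe, orderOf_pow' x (by positivity), hord,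
          Nat.gcd_eq_right (dvd_mul_right (2 ^ k) m), Nat.mul_div_cancel_left _ (by positivity)]
        exact hm
    exact Subtype.ext (Subtype.ext h2)
  haveI : Group.IsSolvable g.ker := by
    haveI : Group.IsNilpotent g.ker := hp.isNilpotent
    infer_instance
  exact Group.isSolvable_of_ker_le_range g.ker.subtype g (by simp)

theorem card_sup_le {V : Type*} [Group V] [Finite V] (A B : Subgroup V) [A.Normal] :
    Nat.card ↥(A ⊔ B) ≤ Nat.card A * Nat.card B := by
  rw [← Nat.card_prod]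
  refine Nat.card_le_card_of_surjective
    (fun o : A × B => (⟨(o.1 : V) * o.2, Subgroup.mul_mem_sup o.1.2 o.2.2⟩ : ↥(A ⊔ B))) ?_
  rintro ⟨x, hx⟩
  obtain ⟨a, ha, b, hb, rfl⟩ := Subgroup.mem_sup_of_normal_left.1 hx
  exact ⟨(⟨a, ha⟩, ⟨b, hb⟩), rfl⟩

/-- The order of a stabiliser drops by at most the size of the orbit. -/
theorem card_le_mul_stabilizer {V : Type*} [Group V] [Finite V] (B : Subgroup (MulAut V)) (a : V)
    (T : Set V) (hT : ∀ φ ∈ B, φ a ∈ T) :
    Nat.card B ≤ T.ncard * Nat.card ↥(B ⊓ MulAction.stabilizer (MulAut V) a) := by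
  classical
  haveI := finite_mulAut V
  set K := B ⊓ MulAction.stabilizer (MulAut V) a
  have h1 : Nat.card (B ⧸ K.subgroupOf B) ≤ T.ncard := by
    rw [← Nat.card_coe_set_eq]
    refine Nat.card_le_card_of_injective (fun q : B ⧸ K.subgroupOf B =>
      Quotient.liftOn' q (fun φ => (⟨φ.1 a, hT φ.1 φ.2⟩ : T)) fun φ ψ h => Subtype.ext ?_) ?_
    · have h2 := (QuotientGroup.leftRel_apply.1 h : φ⁻¹ * ψ ∈ K.subgroupOf B).2
      have h3 : φ.1⁻¹ (ψ.1 a) = a := h2
      have h4 := congrArg φ.1 h3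
      rw [MulAut.apply_inv_self] at h4
      exact h4.symm
    · intro p q hpq
      induction p using QuotientGroup.induction_on with | H φ => ?_
      induction q using QuotientGroup.induction_on with | H ψ => ?_
      refine QuotientGroup.eq.2 ⟨B.mul_mem (B.inv_mem φ.2) ψ.2, ?_⟩
      have h3 : φ.1 a = ψ.1 a := congrArg Subtype.val hpq
      show φ.1⁻¹ (ψ.1 a) = a
      rw [← h3, MulAut.inv_apply_self]
  rw [Subgroup.card_eq_card_quotient_mul_card_subgroup (K.subgroupOf B),
    Nat.card_congr (Subgroup.subgroupOfEquivOfLe (inf_le_left : K ≤ B)).toEquiv]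
  exact Nat.mul_le_mul_right _ h1

/-- An elementary abelian group on at most three generators has at most 168 automorphisms. -/
theorem card_mulAut_le {V : Type*} [Group V] [Finite V] (hc : ∀ x y : V, x * y = y * x)
    (h2 : ∀ x : V, x ^ 2 = 1) {a b c : V} (hgen : Subgroup.closure ({a, b, c} : Set V) = ⊤) :
    Nat.card (MulAut V) ≤ 168 := by
  classical
  haveI := finite_mulAut V
  letI : CommGroup V := { (inferInstance : Group V) with mul_comm := hc }
  have hz : ∀ x : V, Nat.card (Subgroup.zpowers x) ≤ 2 := fun x => by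
    rw [Nat.card_zpowers]; exact Nat.le_of_dvd two_pos (orderOf_dvd_of_pow_eq_one (h2 x))
  have hgen' : Subgroup.zpowers a ⊔ Subgroup.zpowers b ⊔ Subgroup.zpowers c = ⊤ := by
    rw [eq_top_iff, ← hgen, Subgroup.closure_le]
    rintro x (rfl | rfl | rfl)
    exacts [Subgroup.mem_sup_left (Subgroup.mem_sup_left (Subgroup.mem_zpowers x)),
      Subgroup.mem_sup_left (Subgroup.mem_sup_right (Subgroup.mem_zpowers x)),
      Subgroup.mem_sup_right (Subgroup.mem_zpowers x)]
  have hAB : Nat.card ↥(Subgroup.zpowers a ⊔ Subgroup.zpowers b) ≤ 4 :=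
    (card_sup_le _ _).trans (Nat.mul_le_mul (hz a) (hz b))
  have hV : Nat.card V ≤ 8 := by
    rw [← Subgroup.card_top (G := V), ← hgen']
    exact (card_sup_le _ _).trans (Nat.mul_le_mul hAB (hz c))
  set S1 := MulAction.stabilizer (MulAut V) a
  set S2 := (⊤ : Subgroup (MulAut V)) ⊓ S1 ⊓ MulAction.stabilizer (MulAut V) b
  have htriv : Nat.card ↥(S2 ⊓ MulAction.stabilizer (MulAut V) c) ≤ 1 := by
    refine le_of_eq (Subgroup.card_eq_one.2 ((Subgroup.eq_bot_iff_forall _).2 ?_))
    rintro φ ⟨⟨⟨-, ha⟩, hb⟩, hcc⟩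
    have heq : φ.toMonoidHom = MonoidHom.id V := MonoidHom.eq_of_eqOn_dense hgen (by
      rintro x (rfl | rfl | rfl)
      exacts [ha, hb, hcc])
    exact MulEquiv.ext fun x => DFunLike.congr_fun heq x
  have hcompl : ∀ U : Subgroup V, ((U : Set V)ᶜ).ncard = Nat.card V - Nat.card U := fun U => by
    rw [Set.ncard_compl]; rfl
  have key : ∀ (T₁ T₂ T₃ : Set V), (∀ φ : MulAut V, φ a ∈ T₁) →
      (∀ φ : MulAut V, φ a = a → φ b ∈ T₂) → (∀ φ : MulAut V, φ a = a → φ b = b → φ c ∈ T₃) →
      Nat.card (MulAut V) ≤ T₁.ncard * (T₂.ncard * T₃.ncard) := by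
    intro T₁ T₂ T₃ t1 t2 t3
    have e1 := card_le_mul_stabilizer (⊤ : Subgroup (MulAut V)) a T₁ fun φ _ => t1 φ
    have e2 := card_le_mul_stabilizer ((⊤ : Subgroup (MulAut V)) ⊓ S1) b T₂ fun φ hφ => t2 φ hφ.2
    have e3 := card_le_mul_stabilizer S2 c T₃ fun φ hφ => t3 φ hφ.1.2 hφ.2
    rw [Subgroup.card_top] at e1
    refine e1.trans (Nat.mul_le_mul_left _ (e2.trans (Nat.mul_le_mul_left _ (e3.trans ?_))))
    calc T₃.ncard * Nat.card ↥(S2 ⊓ MulAction.stabilizer (MulAut V) c) ≤ T₃.ncard * 1 :=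
          Nat.mul_le_mul_left _ htriv
      _ = T₃.ncard := mul_one _
  by_cases h8 : Nat.card V ≤ 4
  · refine (key Set.univ Set.univ Set.univ (fun _ => trivial) (fun _ _ => trivial)
      (fun _ _ _ => trivial)).trans ?_
    rw [Set.ncard_univ]
    exact (Nat.mul_le_mul h8 (Nat.mul_le_mul h8 h8)).trans (by norm_num)
  -- order eight
  have hsub : ∀ U : Subgroup V, ∃ k, Nat.card U = 2 ^ k := fun U =>
    IsPGroup.iff_card.1 (IsPGroup.to_subgroup (fun x => ⟨1, by simpa using h2 x⟩) U)
  have hV8 : Nat.card V = 8 := by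
    obtain ⟨k, hk⟩ := hsub ⊤
    rw [Subgroup.card_top] at hk
    have : k ≤ 3 := by
      by_contra hh
      have : 2 ^ 4 ≤ 2 ^ k := Nat.pow_le_pow_right (by norm_num) (by omega)
      omega
    have : 3 ≤ k := by
      by_contra hh
      have : 2 ^ k ≤ 2 ^ 2 := Nat.pow_le_pow_right (by norm_num) (by omega)
      omega
    rw [hk, show k = 3 by omega]; norm_num
  have hAB4 : Nat.card ↥(Subgroup.zpowers a ⊔ Subgroup.zpowers b) = 4 := by
    have h1 := card_sup_le (Subgroup.zpowers a ⊔ Subgroup.zpowers b) (Subgroup.zpowers c)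
    rw [hgen', Subgroup.card_top, hV8] at h1
    have := Nat.mul_le_mul_left (Nat.card ↥(Subgroup.zpowers a ⊔ Subgroup.zpowers b)) (hz c)
    omega
  have hA2 : Nat.card (Subgroup.zpowers a) = 2 := by
    have h1 := card_sup_le (Subgroup.zpowers a) (Subgroup.zpowers b)
    rw [hAB4] at h1
    have := Nat.mul_le_mul_left (Nat.card (Subgroup.zpowers a)) (hz b)
    have := hz a
    omega
  have ha1 : a ≠ 1 := fun e => by
    rw [e, Subgroup.zpowers_one_eq_bot, Subgroup.card_bot] at hA2; omega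
  have hbA : b ∉ Subgroup.zpowers a := fun e => by
    have : Subgroup.zpowers a ⊔ Subgroup.zpowers b = Subgroup.zpowers a :=
      sup_eq_left.2 (Subgroup.zpowers_le.2 e)
    rw [this, hA2] at hAB4; omega
  have hcAB : c ∉ Subgroup.zpowers a ⊔ Subgroup.zpowers b := fun e => by
    have h1 : Subgroup.zpowers a ⊔ Subgroup.zpowers b ⊔ Subgroup.zpowers c =
        Subgroup.zpowers a ⊔ Subgroup.zpowers b := sup_eq_left.2 (Subgroup.zpowers_le.2 e)
    rw [hgen'] at h1
    rw [← h1, Subgroup.card_top, hV8] at hAB4; omega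
  refine (key ((⊥ : Subgroup V) : Set V)ᶜ ((Subgroup.zpowers a : Subgroup V) : Set V)ᶜ
    ((Subgroup.zpowers a ⊔ Subgroup.zpowers b : Subgroup V) : Set V)ᶜ ?_ ?_ ?_).trans ?_
  · exact fun φ hm => ha1 ((map_eq_one_iff φ φ.injective).1 (Subgroup.mem_bot.1 hm))
  · intro φ hφa hm
    refine hbA ?_
    obtain ⟨i, hi⟩ := Subgroup.mem_zpowers_iff.1 hm
    refine Subgroup.mem_zpowers_iff.2 ⟨i, φ.injective ?_⟩
    rw [map_zpow, hφa, hi]
  · intro φ hφa hφb hm
    refine hcAB ?_
    have hle : Subgroup.zpowers a ⊔ Subgroup.zpowers b ≤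
        (Subgroup.zpowers a ⊔ Subgroup.zpowers b).comap φ.symm.toMonoidHom := by
      refine sup_le (Subgroup.zpowers_le.2 ?_) (Subgroup.zpowers_le.2 ?_)
      · rw [Subgroup.mem_comap]
        show φ.symm a ∈ Subgroup.zpowers a ⊔ Subgroup.zpowers b
        rw [show φ.symm a = a from φ.symm_apply_eq.2 hφa.symm]
        exact Subgroup.mem_sup_left (Subgroup.mem_zpowers a)
      · rw [Subgroup.mem_comap]
        show φ.symm b ∈ Subgroup.zpowers a ⊔ Subgroup.zpowers b
        rw [show φ.symm b = b from φ.symm_apply_eq.2 hφb.symm]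
        exact Subgroup.mem_sup_right (Subgroup.mem_zpowers b)
    have h1 := hle hm
    rw [Subgroup.mem_comap] at h1
    simpa using h1
  · rw [hcompl, hcompl, hcompl, Subgroup.card_bot, hA2, hAB4, hV8]

end Cfsg.Agent.Lib.OutSol3066.Reduce
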