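import Cfsg.Agent.Lib.OutSol3066.Linear
import Cfsg.Agent.Lib.OutSol3066.Reduce
import Cfsg.Agent.Lib.OutSol32.Row3065
import Cfsg.Agent.Lib.TwoGroupOddAuto.Basic
import Cfsg.Agent.Lib.Transfer.Fusion
import Cfsg.Agent.Lib.BenderConsumers23.Simple
import Cfsg.Agent.Lib.BenderOne.Final
import Cfsg.Agent.Lib.Tech42.BpBalance.Transfer
import Cfsg.Agent.S2602
import Cfsg.Agent.S2603
import Cfsg.Agent.S2126
import Cfsg.Agent.Lib.OddOrder.FeitThompson
import Cfsg.Prelude.Def_TwoFusion

/-!
# S3066: solvable outer automorphism groups from conditions on a Sylow 2-subgroup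

The case of a nonabelian Sylow 2-subgroup with commuting conjugate involutions takes Goldschmidt's
theorem on strongly closed abelian subgroups as a hypothesis.
-/

set_option autoImplicit false
set_option linter.style.haveILetI false

namespace Cfsg.Agent.Lib.OutSol3066.Main

open Cfsg.Agent.Lib.OutSol32.Basic (stab restrict)
open scoped commutatorElement

universe u

/-- The statement of S1169. -/
def GoldschmidtProp : Prop :=
  ∀ (G : Type u) [Group G] [Finite G] [IsSimpleGroup G] (S : Sylow 2 G) (A : Subgroup G), A ≠ ⊥ →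
    IsMulCommutative A → Cfsg.IsStronglyClosed A (S : Subgroup G) →
      IsMulCommutative (S : Subgroup G) ∨ ∃ H : Subgroup G, Cfsg.IsStronglyEmbedded H

variable {G : Type u} [Group G] [Finite G]

/-- Trivial odd core of a simple group of even order. -/
theorem oddNormal_eq_bot [IsSimpleGroup G] (S : Sylow 2 G) (hS1 : (S : Subgroup G) ≠ ⊥) :
    ∀ N : Subgroup G, N.Normal → Odd (Nat.card N) → N = ⊥ := by
  intro N hN hodd
  rcases hN.eq_bot_or_eq_top with h | h
  · exact h
  · have h2 : 2 ∣ Nat.card G := by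
      obtain ⟨k, hk⟩ := S.isPGroup'.exists_card_eq
      have hk0 : k ≠ 0 := fun h0 => hS1 (Subgroup.card_eq_one.1 (by rw [hk, h0, pow_zero]))
      exact ((dvd_pow_self 2 hk0).trans hk.symm.dvd).trans (Subgroup.card_subgroup_dvd_card _)
    rw [h, Subgroup.card_top] at hodd
    exact absurd h2 (Nat.two_dvd_ne_zero.2 (Nat.odd_iff.1 hodd))

/-- The automorphisms of the Frattini quotient. -/
noncomputable abbrev toFrattini (S : Subgroup G) : MulAut S →* MulAut (↥S ⧸ frattini ↥S) :=
  Signalizer.frattiniAut ↥S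

theorem toFrattini_ker (S : Sylow 2 G) (φ : MulAut (S : Subgroup G))
    (h : toFrattini (S : Subgroup G) φ = 1) (hodd : Odd (orderOf φ)) : φ = 1 := by
  haveI : Fact (Nat.Prime 2) := ⟨Nat.prime_two⟩
  refine Resistant67.eq_one_of_trivial_frattini S.2 (Nat.coprime_two_right.2 hodd) fun x => ?_
  exact QuotientGroup.eq.1 (DFunLike.congr_fun h (QuotientGroup.mk' _ x)).symm

/-- Two generators. -/
theorem solvable_two (S : Sylow 2 G) {a b : (S : Subgroup G)}
    (hgen : Subgroup.closure ({a, b} : Set (S : Subgroup G)) = ⊤) :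
    Group.IsSolvable ↥(restrict (S : Subgroup G)).range := by
  haveI : Fact (Nat.Prime 2) := ⟨Nat.prime_two⟩
  set mk := QuotientGroup.mk' (frattini (S : Subgroup G)) with hmk
  haveI := Reduce.finite_mulAut (↥(S : Subgroup G) ⧸ frattini ↥(S : Subgroup G))
  refine Reduce.isSolvable_of_map S (toFrattini _) (toFrattini_ker S)
    (Spectrum.isSolvable_of_card_lt_sixty _ rfl ?_)
  refine lt_of_le_of_lt (Subgroup.card_le_card_group _) ?_
  have hgen' : Subgroup.closure ({mk a, mk b} : Set _) = ⊤ := by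
    rw [← Set.image_singleton, ← Set.image_insert_eq, ← MonoidHom.map_closure, hgen,
      Subgroup.map_top_of_surjective mk (QuotientGroup.mk'_surjective _)]
  set V := ↥(S : Subgroup G) ⧸ frattini ↥(S : Subgroup G)
  have hV : Nat.card V ≤ 4 := by
    have hz : ∀ x : V, Nat.card (Subgroup.zpowers x) ≤ 2 := fun x => by
      rw [Nat.card_zpowers]
      refine Nat.le_of_dvd two_pos (orderOf_dvd_of_pow_eq_one ?_)
      obtain ⟨x, rfl⟩ := QuotientGroup.mk'_surjective _ x
      rw [← map_pow]
      exact (QuotientGroup.eq_one_iff _).2 (PGroups.pow_mem_frattini S.2 x)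
    haveI : (Subgroup.zpowers (mk a)).Normal := ⟨fun v hv g => by
      obtain ⟨g, rfl⟩ := QuotientGroup.mk'_surjective _ g
      obtain ⟨v', rfl⟩ := QuotientGroup.mk'_surjective _ v
      have h1 : ⁅mk g, mk v'⁆ = 1 := by
        rw [← map_commutatorElement]
        exact (QuotientGroup.eq_one_iff _).2 (PGroups.commutatorElement_mem_frattini S.2 g v')
      rwa [commutatorElement_eq_one_iff_mul_comm.1 h1, mul_inv_cancel_right]⟩
    rw [← Subgroup.card_top (G := V), ← hgen', Set.insert_eq, Subgroup.closure_union,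
      ← Subgroup.zpowers_eq_closure, ← Subgroup.zpowers_eq_closure]
    exact (Reduce.card_sup_le _ _).trans (Nat.mul_le_mul (hz _) (hz _))
  calc Nat.card (MulAut V) ≤ Nat.card (V × V) := by
        refine Nat.card_le_card_of_injective (fun φ : MulAut V => (φ (mk a), φ (mk b))) fun φ ψ h => ?_
        have heq : φ.toMonoidHom = ψ.toMonoidHom := MonoidHom.eq_of_eqOn_dense hgen' (by
          rintro x (rfl | rfl)
          exacts [(Prod.ext_iff.1 h).1, (Prod.ext_iff.1 h).2])
        exact MulEquiv.ext fun x => DFunLike.congr_fun heq x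
    _ < 60 := by rw [Nat.card_prod]; exact lt_of_le_of_lt (Nat.mul_le_mul hV hV) (by norm_num)

/-- Three generators and an odd automorphism in the normaliser. -/
theorem solvable_three (hFT : FTDeps.Basic.OddOrderSolvable.{u}) (S : Sylow 2 G) {a b c : (S : Subgroup G)}
    (hgen : Subgroup.closure ({a, b, c} : Set (S : Subgroup G)) = ⊤) {g : G}
    (hg : g ∈ Subgroup.normalizer ((S : Subgroup G) : Set G)) (hodd : Odd (orderOf g))
    (hgc : g ∉ Subgroup.centralizer ((S : Subgroup G) : Set G)) :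
    Group.IsSolvable ↥(restrict (S : Subgroup G)).range := by
  haveI : Fact (Nat.Prime 2) := ⟨Nat.prime_two⟩
  set f := toFrattini (S : Subgroup G) with hf
  set V := ↥(S : Subgroup G) ⧸ frattini ↥(S : Subgroup G)
  set mk := QuotientGroup.mk' (frattini (S : Subgroup G)) with hmk
  haveI := Reduce.finite_mulAut V
  refine Reduce.isSolvable_of_map S f (toFrattini_ker S) ?_
  set Y := (restrict (S : Subgroup G)).range.map f
  set M := Reduce.normImage (S : Subgroup G) f with hM
  have hMY : M ≤ Y := Reduce.normImage_le _ f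
  haveI : (M.subgroupOf Y).Normal := ⟨fun d hd r => Reduce.normImage_normal _ f _ r.2 _ hd⟩
  have hMc : Nat.card (M.subgroupOf Y) = Nat.card M :=
    Nat.card_congr (Subgroup.subgroupOfEquivOfLe hMY).toEquiv
  have hModd : Odd (Nat.card M) := Reduce.normImage_odd S f fun n hn => by
    refine MulEquiv.ext fun v => ?_
    obtain ⟨v, rfl⟩ := QuotientGroup.mk'_surjective _ v
    refine (QuotientGroup.eq.2 ?_).symm
    have h1 := PGroups.commutatorElement_mem_frattini S.2 v⁻¹ (⟨(n : G), hn⟩ : (S : Subgroup G))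
    convert h1 using 1
    refine Subtype.ext ?_
    show (v : G)⁻¹ * ((n : G) * v * (n : G)⁻¹) = (v : G)⁻¹ * (n : G) * ((v : G)⁻¹)⁻¹ * (n : G)⁻¹
    group
  have hM1 : Nat.card M ≠ 1 := by
    intro h1
    refine hgc (Subgroup.mem_centralizer_iff.2 fun v hv => ?_)
    have h2 : f ((S : Subgroup G).normalizerMonoidHom ⟨g, hg⟩) = 1 :=
      Subgroup.mem_bot.1 ((Subgroup.card_eq_one.1 h1).le ⟨_, rfl⟩)
    have h3 := toFrattini_ker S _ h2 (hodd.of_dvd_nat (by
      refine (orderOf_map_dvd _ _).trans ?_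
      rw [Subgroup.orderOf_mk]))
    have h4 := congrArg Subtype.val (DFunLike.congr_fun h3 (⟨v, hv⟩ : (S : Subgroup G)))
    exact (mul_inv_eq_iff_eq_mul.1 h4).symm
  haveI : Group.IsSolvable (M.subgroupOf Y) := hFT _ (hMc ▸ hModd)
  haveI : Group.IsSolvable (Y ⧸ M.subgroupOf Y) := by
    refine Spectrum.isSolvable_of_card_lt_sixty _ rfl ?_
    have hY : Nat.card Y ≤ 168 := by
      refine (Subgroup.card_le_card_group _).trans (Reduce.card_mulAut_le (a := mk a) (b := mk b) (c := mk c)
        (fun x y => ?_) (fun x => ?_) ?_)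
      · obtain ⟨x, rfl⟩ := QuotientGroup.mk'_surjective _ x
        obtain ⟨y, rfl⟩ := QuotientGroup.mk'_surjective _ y
        rw [← commutatorElement_eq_one_iff_mul_comm, ← map_commutatorElement]
        exact (QuotientGroup.eq_one_iff _).2 (PGroups.commutatorElement_mem_frattini S.2 x y)
      · obtain ⟨x, rfl⟩ := QuotientGroup.mk'_surjective _ x
        rw [← map_pow]
        exact (QuotientGroup.eq_one_iff _).2 (PGroups.pow_mem_frattini S.2 x)
      · rw [← Set.image_singleton, ← Set.image_insert_eq, ← Set.image_insert_eq, ← MonoidHom.map_closure,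
          hgen, Subgroup.map_top_of_surjective mk (QuotientGroup.mk'_surjective _)]
    rw [Subgroup.card_eq_card_quotient_mul_card_subgroup (M.subgroupOf Y), hMc] at hY
    have h3 : 3 ≤ Nat.card M := by
      obtain ⟨k, hk⟩ := hModd
      omega
    have := Nat.mul_le_mul_left (Nat.card (Y ⧸ M.subgroupOf Y)) h3
    omega
  exact Spectrum.isSolvable_iff_of_normal (M.subgroupOf Y)

/-- The involutions with the identity, when they commute. -/
def omegaSub (S : Subgroup G) (hS : ∀ s ∈ S, ∀ t ∈ S, orderOf s = 2 → orderOf t = 2 → s * t = t * s) :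
    Subgroup S where
  carrier := {s | s ^ 2 = 1}
  one_mem' := one_pow 2
  mul_mem' := fun {a b} ha hb => by
    have hab : Commute a b := by
      by_cases ha1 : a = 1
      · rw [ha1]; exact Commute.one_left b
      by_cases hb1 : b = 1
      · rw [hb1]; exact Commute.one_right a
      refine Subtype.ext (hS a a.2 b b.2 ?_ ?_)
      · rw [Subgroup.orderOf_coe]; exact orderOf_eq_prime ha ha1
      · rw [Subgroup.orderOf_coe]; exact orderOf_eq_prime hb hb1
    show (a * b) ^ 2 = 1
    rw [hab.mul_pow, show a ^ 2 = 1 from ha, show b ^ 2 = 1 from hb, one_mul]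
  inv_mem' := fun {a} ha => by
    show a⁻¹ ^ 2 = 1
    rw [inv_pow, show a ^ 2 = 1 from ha, inv_one]

/-- The restriction of automorphisms to the involutions. -/
def toOmega (S : Subgroup G) (hS : ∀ s ∈ S, ∀ t ∈ S, orderOf s = 2 → orderOf t = 2 → s * t = t * s) :
    MulAut S →* MulAut (omegaSub S hS) :=
  MonoidHom.mk' (fun φ =>
    { toFun := fun x => ⟨φ x.1, show (φ x.1) ^ 2 = 1 by rw [← map_pow, show x.1 ^ 2 = 1 from x.2, map_one]⟩
      invFun := fun x => ⟨φ.symm x.1,
        show (φ.symm x.1) ^ 2 = 1 by rw [← map_pow, show x.1 ^ 2 = 1 from x.2, map_one]⟩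
      left_inv := fun x => Subtype.ext (φ.symm_apply_apply x.1)
      right_inv := fun x => Subtype.ext (φ.apply_symm_apply x.1)
      map_mul' := fun x y => Subtype.ext (map_mul φ x.1 y.1) })
    fun _ _ => MulEquiv.ext fun _ => rfl

/-- An abelian Sylow 2-subgroup with conjugate involutions. -/
theorem solvable_abelian (hFT : FTDeps.Basic.OddOrderSolvable.{u}) (S : Sylow 2 G)
    (hab : IsMulCommutative (S : Subgroup G))
    (hcomm : ∀ s ∈ (S : Subgroup G), ∀ t ∈ (S : Subgroup G), orderOf s = 2 → orderOf t = 2 → s * t = t * s)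
    (hconj : ∀ s ∈ S, ∀ t ∈ S, orderOf s = 2 → orderOf t = 2 → ∃ g : G, g * s * g⁻¹ = t) :
    Group.IsSolvable ↥(restrict (S : Subgroup G)).range := by
  haveI : Fact (Nat.Prime 2) := ⟨Nat.prime_two⟩
  set E := omegaSub (S : Subgroup G) hcomm
  set f := toOmega (S : Subgroup G) hcomm with hf
  have hcS : ∀ x y : (S : Subgroup G), x * y = y * x := fun x y =>
    Subtype.ext (setLike_mul_comm (s := (S : Subgroup G)) x.2 y.2)
  refine Reduce.isSolvable_of_map S f (fun φ hφ hodd => ?_) ?_
  · refine MulEquiv.ext fun x => ?_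
    show φ x = x
    obtain ⟨i, hi⟩ := S.2 x
    induction i generalizing x with
    | zero => rw [pow_zero, pow_one] at hi; rw [hi, map_one]
    | succ i ih =>
      have h2 : φ (x ^ 2) = x ^ 2 := ih (x ^ 2) (by rw [← pow_mul, ← pow_succ']; exact hi)
      have hd2 : (x⁻¹ * φ x) ^ 2 = 1 := by
        rw [(show Commute x⁻¹ (φ x) from hcS _ _).mul_pow, ← map_pow, h2, inv_pow, inv_mul_cancel]
      have hdfix : φ (x⁻¹ * φ x) = x⁻¹ * φ x :=
        congrArg Subtype.val (DFunLike.congr_fun hφ (⟨x⁻¹ * φ x, hd2⟩ : E))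
      have h1 := TwoGroupOddAuto.eq_of_fixed_error (ψ := φ) hodd (x := x) (e := x⁻¹ * φ x)
        (mul_inv_cancel_left x (φ x)).symm hdfix hd2
      exact (inv_mul_eq_one.1 h1).symm
  · have hodd : Odd (Nat.card (Reduce.normImage (S : Subgroup G) f)) := by
      haveI := Reduce.finite_mulAut E
      refine Reduce.normImage_odd S f fun n hn => MulEquiv.ext fun x => Subtype.ext (Subtype.ext ?_)
      show (n : G) * ((x.1 : (S : Subgroup G)) : G) * (n : G)⁻¹ = _
      rw [setLike_mul_comm (s := (S : Subgroup G)) hn (x.1).2, mul_inv_cancel_right]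
      rfl
    refine Linear.isSolvable_of_transitive hFT (fun x y => Subtype.ext (hcS x.1 y.1))
      (fun x => Subtype.ext x.2) _ _ (Reduce.normImage_normal _ f) hodd fun x y hx hy => ?_
    have ho : ∀ z : E, z ≠ 1 → orderOf ((z.1 : (S : Subgroup G)) : G) = 2 := fun z hz => by
      rw [Subgroup.orderOf_coe]
      exact orderOf_eq_prime z.2 fun e => hz (Subtype.ext e)
    obtain ⟨k, hk⟩ := hconj _ x.1.2 _ y.1.2 (ho x hx) (ho y hy)
    obtain ⟨n, hn, hne⟩ := Transfer.Fusion.controls_of_isMulCommutative S hab _ x.1.2 k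
      (by rw [hk]; exact y.1.2)
    exact ⟨_, ⟨⟨n, hn⟩, rfl⟩, Subtype.ext (Subtype.ext (hne.trans hk))⟩

/-- The outer automorphism groups of the groups with a strongly embedded subgroup. -/
theorem out_of_target {L : Type u} [Group L] [Finite L] (h : BenderConsumers23.Target L) :
    Group.IsSolvable (Cfsg.Out L) := by
  haveI : Fact (Nat.Prime 2) := ⟨Nat.prime_two⟩
  rcases h with ⟨F, _, _, n, hn, hF, ⟨e⟩⟩ | ⟨F, _, _, m, hm, hF, ⟨e⟩⟩ | ⟨F, _, _, n, hn, hF, ⟨e⟩⟩
  · refine Tech42.BpBalance.out_congr e.symm ?_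
    obtain ⟨φ, -, hcyc, -⟩ := S2602.result (F := F) (p := 2) (f := n) (by omega) hF
      ((Nat.pow_le_pow_right (by norm_num) hn : 2 ^ 2 ≤ 2 ^ n))
    haveI := hcyc
    haveI : Group.IsSolvable φ.ker := by
      letI : CommGroup φ.ker := IsCyclic.commGroup
      infer_instance
    exact Group.isSolvable_of_ker_le_range φ.ker.subtype φ (by simp)
  · refine Tech42.BpBalance.out_congr e.symm ?_
    have hc := S2126.result hm hF
    haveI : Finite (Cfsg.Out ↥(Cfsg.Lie.Sz F (2 ^ (m + 1)))) := Nat.finite_of_card_ne_zero (by omega)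
    exact OddOrder.FeitThompson.isSolvable_of_odd_card (hc ▸ odd_two_mul_add_one m)
  · refine Tech42.BpBalance.out_congr e.symm ?_
    obtain ⟨φ, -, hcyc, -⟩ := S2603.result (K := F) (p := 2) (f := n) (q := 2 ^ n) (n := 3)
      (by omega) rfl hF le_rfl (fun h => by
        have : 2 ^ 2 ≤ 2 ^ n := Nat.pow_le_pow_right (by norm_num) hn
        omega)
    haveI := hcyc
    haveI : Group.IsSolvable φ.ker := by
      letI : CommGroup φ.ker := IsCyclic.commGroup
      infer_instance
    exact Group.isSolvable_of_ker_le_range φ.ker.subtype φ (by simp)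

theorem main (hFT : FTDeps.Basic.OddOrderSolvable.{u}) (hGold : GoldschmidtProp.{u}) [IsSimpleGroup G]
    (hG : ¬ IsMulCommutative G) (S : Sylow 2 G) (hS1 : (S : Subgroup G) ≠ ⊥)
    (h : (∃ a b : ↥S, Subgroup.closure ({a, b} : Set ↥S) = ⊤) ∨
      ((∃ a b c : ↥S, Subgroup.closure ({a, b, c} : Set ↥S) = ⊤) ∧
        ∃ g ∈ Subgroup.normalizer ((S : Subgroup G) : Set G), Odd (orderOf g) ∧ g ∉ Subgroup.centralizer ((S : Subgroup G) : Set G)) ∨
      ((∀ s ∈ S, ∀ t ∈ S, orderOf s = 2 → orderOf t = 2 → s * t = t * s) ∧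
        (∀ s ∈ S, ∀ t ∈ S, orderOf s = 2 → orderOf t = 2 → ∃ g : G, g * s * g⁻¹ = t))) :
    Group.IsSolvable (Cfsg.Out G) := by
  have hO := oddNormal_eq_bot S hS1
  rcases h with ⟨a, b, hab⟩ | ⟨⟨a, b, c, habc⟩, g, hg, hgo, hgc⟩ | ⟨hcomm, hconj⟩
  · exact OutSol32.Basic.isSolvable_out hFT hO S (solvable_two S hab)
  · exact OutSol32.Basic.isSolvable_out hFT hO S (solvable_three hFT S habc hg hgo hgc)
  by_cases hSab : IsMulCommutative (S : Subgroup G)
  · exact OutSol32.Basic.isSolvable_out hFT hO S (solvable_abelian hFT S hSab hcomm hconj)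
  haveI : Fact (Nat.Prime 2) := ⟨Nat.prime_two⟩
  set E := (omegaSub (S : Subgroup G) hcomm).map (S : Subgroup G).subtype with hE
  have hmem : ∀ {x : G}, x ∈ (S : Subgroup G) → x ^ 2 = 1 → x ∈ E := fun hx hx2 =>
    ⟨⟨_, hx⟩, Subtype.ext hx2, rfl⟩
  have hE1 : E ≠ ⊥ := by
    intro hbot
    have h2 : 2 ∣ Nat.card (S : Subgroup G) := by
      obtain ⟨k, hk⟩ := IsPGroup.iff_card.1 S.2
      rw [hk]
      refine dvd_pow_self 2 fun h0 => hS1 (Subgroup.card_eq_one.1 (by rw [hk, h0, pow_zero]))
    obtain ⟨x, hx⟩ := exists_prime_orderOf_dvd_card' (G := (S : Subgroup G)) 2 h2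
    have h3 := hmem x.2 (by
      rw [← Subgroup.coe_pow, (congrArg (x ^ ·) hx).symm.trans (pow_orderOf_eq_one x), Subgroup.coe_one])
    rw [hbot, Subgroup.mem_bot] at h3
    rw [show x = 1 from Subtype.ext h3, orderOf_one] at hx
    omega
  have hEc : IsMulCommutative E := ⟨⟨by
    rintro ⟨_, p, hp, rfl⟩ ⟨_, q, hq, rfl⟩
    refine Subtype.ext ?_
    show (p : G) * q = q * p
    by_cases hp1 : p = 1
    · simp [hp1]
    by_cases hq1 : q = 1
    · simp [hq1]
    refine hcomm p p.2 q q.2 ?_ ?_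
    · rw [Subgroup.orderOf_coe]; exact orderOf_eq_prime hp hp1
    · rw [Subgroup.orderOf_coe]; exact orderOf_eq_prime hq hq1⟩⟩
  have hsc : Cfsg.IsStronglyClosed E (S : Subgroup G) := by
    refine ⟨Subgroup.map_subtype_le _, ?_⟩
    rintro _ ⟨p, hp, rfl⟩ g hgS
    refine hmem hgS ?_
    rw [conj_pow]
    have h1 : ((p : G)) ^ 2 = 1 := congrArg Subtype.val hp
    rw [Subgroup.coe_subtype, h1]
    simp
  rcases hGold G S E hE1 hEc hsc with h | ⟨H, hH⟩
  · exact absurd h hSab
  · exact out_of_target (BenderConsumers23.simple_case BenderOne.propPartOneFinal BenderSuzuki.propMain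
      (BenderConsumers23.na_of_not_comm hG) hH).1

end Cfsg.Agent.Lib.OutSol3066.Main
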