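import Cfsg.Agent.Lib.FTDeps.TransitiveOdd
import Cfsg.Agent.Lib.TIHall.AutSolvable

/-!
# A linear group normalising an odd group transitive on the nonzero vectors is solvable

The cyclic Fitting subgroup of the odd group is irreducible by counting, so its centraliser is
abelian.
-/

set_option autoImplicit false
set_option linter.style.haveILetI false

namespace Cfsg.Agent.Lib.OutSol3066.Linear

open Cfsg.Agent.Lib.FTDeps.Basic (OddOrderSolvable)

universe u

variable {V : Type u} [Group V]

/-- Elements of a cyclic group determine an automorphism by the image of a generator. -/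
theorem card_mulAut_le_of_isCyclic {P : Type*} [Group P] [Finite P] [IsCyclic P] :
    Nat.card (MulAut P) ≤ Nat.card P := by
  obtain ⟨g, hg⟩ := IsCyclic.exists_generator (α := P)
  refine Nat.card_le_card_of_injective (fun φ : MulAut P => φ g) fun a b hab => MulEquiv.ext fun x => ?_
  obtain ⟨k, rfl⟩ := Subgroup.mem_zpowers_iff.1 (hg x)
  rw [map_zpow, map_zpow]
  exact congrArg (· ^ k) hab

/-- `U` is mapped into itself by all elements of `F`. -/
def Inv (F : Subgroup (MulAut V)) (U : Subgroup V) : Prop := ∀ f ∈ F, ∀ v ∈ U, f v ∈ U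

/-- The centraliser of an irreducible abelian group of automorphisms is abelian. -/
theorem centralizer_comm (hc : ∀ x y : V, x * y = y * x) (F : Subgroup (MulAut V))
    (hF : ∀ a ∈ F, ∀ b ∈ F, a * b = b * a) {v : V}
    (hv : Subgroup.closure {x | ∃ f ∈ F, f v = x} = ⊤) :
    ∀ a ∈ Subgroup.centralizer (F : Set (MulAut V)), ∀ b ∈ Subgroup.centralizer (F : Set (MulAut V)),
      a * b = b * a := by
  letI : CommGroup V := { (inferInstance : Group V) with mul_comm := hc }
  set C := Subgroup.centralizer (F : Set (MulAut V)) with hC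
  have hFC : F ≤ C := fun f hf => Subgroup.mem_centralizer_iff.2 fun g hg => hF g hg f hf
  have hex : ∀ x : V, ∃ T : V →* V, T v = x ∧ ∀ c ∈ C, ∀ y, T (c y) = c (T y) := by
    intro x
    have hx : x ∈ Subgroup.closure {x | ∃ f ∈ F, f v = x} := hv.ge (Subgroup.mem_top x)
    induction hx using Subgroup.closure_induction with
    | mem x hx =>
      obtain ⟨f, hf, rfl⟩ := hx
      exact ⟨f.toMonoidHom, rfl, fun c hc y =>
        DFunLike.congr_fun (Subgroup.mem_centralizer_iff.1 hc f hf) y⟩
    | one => exact ⟨1, rfl, fun c _ y => (map_one c).symm⟩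
    | mul a b _ _ ha hb =>
      obtain ⟨S, hS, hS'⟩ := ha
      obtain ⟨T, hT, hT'⟩ := hb
      exact ⟨S * T, by rw [MonoidHom.mul_apply, hS, hT], fun c hcC y => by
        rw [MonoidHom.mul_apply, MonoidHom.mul_apply, map_mul, hS' c hcC, hT' c hcC]⟩
    | inv a _ ha =>
      obtain ⟨S, hS, hS'⟩ := ha
      exact ⟨S⁻¹, by rw [MonoidHom.inv_apply, hS], fun c hcC y => by
        rw [MonoidHom.inv_apply, MonoidHom.inv_apply, map_inv, hS' c hcC]⟩
  intro a ha b hb
  obtain ⟨T, hT, hT'⟩ := hex (b v)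
  have hTb : T = b.toMonoidHom := by
    refine MonoidHom.eq_of_eqOn_dense hv ?_
    rintro _ ⟨f, hf, rfl⟩
    show T (f v) = b (f v)
    rw [hT' f (hFC hf), hT]
    exact DFunLike.congr_fun (Subgroup.mem_centralizer_iff.1 hb f hf) v
  refine MulEquiv.ext fun y => ?_
  show a (b y) = b (a y)
  have h1 := hT' a ha y
  rw [hTb] at h1
  exact h1.symm

/-- A group normalising an odd group transitive on the involutions of an elementary abelian 2-group
is solvable. -/
theorem isSolvable_of_transitive [Finite V] (hFT : OddOrderSolvable.{u}) (hc : ∀ x y : V, x * y = y * x)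
    (h2 : ∀ x : V, x ^ 2 = 1) (R D : Subgroup (MulAut V))
    (hn : ∀ r ∈ R, ∀ d ∈ D, r * d * r⁻¹ ∈ D) (hodd : Odd (Nat.card D))
    (htrans : ∀ x y : V, x ≠ 1 → y ≠ 1 → ∃ d ∈ D, d x = y) : Group.IsSolvable R := by
  classical
  haveI : Finite (MulAut V) :=
    Finite.of_injective (fun φ : MulAut V => (φ : V → V)) DFunLike.coe_injective
  by_cases htriv : ∀ x : V, x = 1
  · haveI : Subsingleton (MulAut V) :=
      ⟨fun a b => MulEquiv.ext fun x => by rw [htriv (a x), htriv (b x)]⟩
    exact Group.isSolvable_of_comm fun a b => Subtype.ext (Subsingleton.elim _ _)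
  push Not at htriv
  obtain ⟨v₁, hv₁⟩ := htriv
  letI : CommGroup V := { (inferInstance : Group V) with mul_comm := hc }
  letI : DistribMulAction ↥D (Additive V) :=
    { smul := fun d x => Additive.ofMul (d.1 (Additive.toMul x))
      one_smul := fun _ => rfl
      mul_smul := fun _ _ _ => rfl
      smul_zero := fun d => congrArg Additive.ofMul (map_one d.1)
      smul_add := fun d x y => congrArg Additive.ofMul (map_mul d.1 _ _) }
  haveI : FaithfulSMul ↥D (Additive V) := ⟨fun {a b} h => Subtype.ext (MulEquiv.ext fun x =>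
    congrArg Additive.toMul (h (Additive.ofMul x)))⟩
  obtain ⟨hcyc, hsemi, -⟩ := FTDeps.TransitiveOdd.main hFT hodd Nat.prime_two
    (E := Additive V) (fun e => congrArg Additive.ofMul (h2 (Additive.toMul e)))
    (fun a b ha hb => by
      obtain ⟨d, hd, hda⟩ := htrans (Additive.toMul a) (Additive.toMul b)
        (fun e => ha (Additive.toMul.injective e)) (fun e => hb (Additive.toMul.injective e))
      exact ⟨⟨d, hd⟩, congrArg Additive.ofMul hda⟩)
  haveI := hcyc
  haveI := hFT ↥D hodd
  set F₀ := Cfsg.fittingSubgroup ↥D with hF₀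
  set F := F₀.map D.subtype with hF
  have hFD : F ≤ D := Subgroup.map_subtype_le F₀
  have hFcard : Nat.card F = Nat.card F₀ := Subgroup.card_map_of_injective D.subtype_injective
  haveI : IsCyclic F := (MulEquiv.isCyclic (F₀.equivMapOfInjective _ D.subtype_injective)).1 hcyc
  have hFcomm : ∀ a ∈ F, ∀ b ∈ F, a * b = b * a := fun a ha b hb => by
    letI : CommGroup F := IsCyclic.commGroup
    exact congrArg Subtype.val (mul_comm (⟨a, ha⟩ : F) ⟨b, hb⟩)
  have hFsemi : ∀ f ∈ F, ∀ x : V, x ≠ 1 → f x = x → f = 1 := by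
    rintro _ ⟨f, hf, rfl⟩ x hx hfx
    by_contra hf1
    exact hx (Additive.ofMul.injective (hsemi f hf (fun e => hf1 (by rw [e, map_one]))
      (Additive.ofMul x) (congrArg Additive.ofMul hfx)))
  have hFn : ∀ r : MulAut V, (∀ d, r * d * r⁻¹ ∈ D ↔ d ∈ D) → ∀ f ∈ F, r * f * r⁻¹ ∈ F := by
    rintro r hr _ ⟨f, hf, rfl⟩
    let c : MulAut ↥D :=
      { toFun := fun d => ⟨r * d.1 * r⁻¹, (hr d.1).2 d.2⟩
        invFun := fun d => ⟨r⁻¹ * d.1 * r, (hr _).1 (by
          rw [show r * (r⁻¹ * d.1 * r) * r⁻¹ = d.1 by group]; exact d.2)⟩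
        left_inv := fun d => Subtype.ext (by show r⁻¹ * (r * d.1 * r⁻¹) * r = d.1; group)
        right_inv := fun d => Subtype.ext (by show r * (r⁻¹ * d.1 * r) * r⁻¹ = d.1; group)
        map_mul' := fun a b => Subtype.ext (by
          show r * (a.1 * b.1) * r⁻¹ = r * a.1 * r⁻¹ * (r * b.1 * r⁻¹); group) }
    haveI : F₀.Characteristic := Cores.fittingSubgroup_characteristic
    exact ⟨c f, (SetLike.ext_iff.1 (Subgroup.Characteristic.fixed (H := F₀) inferInstance c) f).2 hf, rfl⟩
  have hconj : ∀ r : MulAut V, (r ∈ R ∨ r ∈ D) → ∀ d, r * d * r⁻¹ ∈ D ↔ d ∈ D := by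
    rintro r (hr | hr) d
    · refine ⟨fun h => ?_, hn r hr d⟩
      have := hn r⁻¹ (R.inv_mem hr) _ h
      rwa [show r⁻¹ * (r * d * r⁻¹) * r⁻¹⁻¹ = d by group] at this
    · rw [D.mul_mem_cancel_right (D.inv_mem hr), D.mul_mem_cancel_left hr]
  -- a minimal invariant subgroup
  have hexn : ∃ n, ∃ W : Subgroup V, Inv F W ∧ W ≠ ⊥ ∧ Nat.card W = n :=
    ⟨_, ⊤, fun _ _ _ _ => Subgroup.mem_top _, fun e => hv₁ (Subgroup.mem_bot.1 (e ▸ Subgroup.mem_top v₁)), rfl⟩
  obtain ⟨W, hW, hWne, hWn⟩ := Nat.find_spec hexn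
  have hmin : ∀ U : Subgroup V, Inv F U → U ≠ ⊥ → Nat.card W ≤ Nat.card U := fun U hU hne => by
    rw [hWn]; exact Nat.find_min' hexn ⟨U, hU, hne, rfl⟩
  obtain ⟨v, hvW, hv1⟩ := (Subgroup.bot_or_exists_ne_one W).resolve_left hWne
  by_cases hWtop : W = ⊤
  · -- irreducible
    have hgen : Subgroup.closure {x | ∃ f ∈ F, f v = x} = ⊤ := by
      set U := Subgroup.closure {x | ∃ f ∈ F, f v = x} with hU
      have hUi : Inv F U := by
        intro f hf x hx
        have hle : U ≤ U.comap f.toMonoidHom := (Subgroup.closure_le _).2 fun y hy => by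
          obtain ⟨g, hg, rfl⟩ := hy
          exact Subgroup.subset_closure ⟨f * g, F.mul_mem hf hg, rfl⟩
        exact hle hx
      have hvU : v ∈ U := Subgroup.subset_closure ⟨1, F.one_mem, rfl⟩
      have h1 := hmin U hUi fun e => hv1 (Subgroup.mem_bot.1 (e ▸ hvU))
      rw [hWtop, Subgroup.card_top] at h1
      exact Subgroup.eq_top_of_le_card U h1
    have hRN : ∀ r : ↥R, (r : MulAut V) ∈ Subgroup.normalizer (F : Set (MulAut V)) := fun r => by
      refine Subgroup.mem_normalizer_iff.2 fun f => ⟨hFn r (hconj r (Or.inl r.2)) f, fun h => ?_⟩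
      have h1 := hFn (r : MulAut V)⁻¹ (hconj _ (Or.inl (R.inv_mem r.2))) _ h
      rwa [show (r : MulAut V)⁻¹ * ((r : MulAut V) * f * (r : MulAut V)⁻¹) * (r : MulAut V)⁻¹⁻¹ = f by
        group] at h1
    set ψ : ↥R →* MulAut F := F.normalizerMonoidHom.comp
      (MonoidHom.mk' (fun r : ↥R => (⟨r, hRN r⟩ : Subgroup.normalizer (F : Set (MulAut V))))
        fun _ _ => rfl) with hψ
    have hkerC : ∀ r : ↥R, r ∈ ψ.ker → (r : MulAut V) ∈ Subgroup.centralizer (F : Set (MulAut V)) := by
      intro r hr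
      refine Subgroup.mem_centralizer_iff.2 fun f hf => ?_
      have h1 : ((ψ r) ⟨f, hf⟩ : F) = ⟨f, hf⟩ := by rw [MonoidHom.mem_ker.1 hr]; rfl
      exact (mul_inv_eq_iff_eq_mul.1 (congrArg Subtype.val h1)).symm
    haveI : Group.IsSolvable ψ.ker := Group.isSolvable_of_comm fun a b => Subtype.ext (Subtype.ext
      (centralizer_comm hc F hFcomm hgen _ (hkerC a.1 a.2) _ (hkerC b.1 b.2)))
    haveI : Group.IsSolvable (MulAut F) := TIHall.isSolvable_mulAut_of_isCyclic
    exact Group.isSolvable_of_ker_le_range ψ.ker.subtype ψ (by simp)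
  · -- the transitive group would be too small
    exfalso
    have hFW : Nat.card F + 1 ≤ Nat.card W := by
      let e : Option F → W := fun o => match o with
        | none => 1
        | some f => ⟨f.1 v, hW f.1 f.2 v hvW⟩
      have he : Function.Injective e := by
        rintro (_ | f) (_ | g) h
        · rfl
        · exfalso
          have h1 : (1 : V) = g.1 v := congrArg (fun o : W => (o : V)) h
          exact hv1 ((map_eq_one_iff g.1 g.1.injective).1 h1.symm)
        · exfalso
          have h1 : f.1 v = (1 : V) := congrArg (fun o : W => (o : V)) h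
          exact hv1 ((map_eq_one_iff f.1 f.1.injective).1 h1)
        · have h1 : f.1 v = g.1 v := congrArg (fun o : W => (o : V)) h
          have h2 := hFsemi (g.1⁻¹ * f.1) (F.mul_mem (F.inv_mem g.2) f.2) v hv1
            (by rw [MulAut.mul_apply, h1, MulAut.inv_apply_self])
          exact congrArg some (Subtype.ext (inv_mul_eq_one.1 h2).symm)
      have := Nat.card_le_card_of_injective e he
      rwa [Finite.card_option] at this
    obtain ⟨w, hwW⟩ : ∃ w : V, w ∉ W := by
      by_contra hcon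
      push Not at hcon
      exact hWtop (eq_top_iff.2 fun x _ => hcon x)
    obtain ⟨d, hd, hdv⟩ := htrans v w hv1 (fun e => hwW (e ▸ W.one_mem))
    set W' := W.map d.toMonoidHom with hW'
    have hW'i : Inv F W' := by
      rintro f hf _ ⟨x, hx, rfl⟩
      refine ⟨(d⁻¹ * f * d⁻¹⁻¹) x, hW _ (hFn d⁻¹ (hconj _ (Or.inr (D.inv_mem hd))) f hf) x hx, ?_⟩
      simp [MulAut.mul_apply]
    have hint : W ⊓ W' = ⊥ := by
      by_contra hne
      have h1 := hmin (W ⊓ W') (fun f hf x hx => ⟨hW f hf x hx.1, hW'i f hf x hx.2⟩) hne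
      have h2 : W ⊓ W' = W := Subgroup.eq_of_le_of_card_ge inf_le_left h1
      have h3 : W' = W := (Subgroup.eq_of_le_of_card_ge (inf_eq_left.1 h2)
        (Subgroup.card_map_of_injective (f := d.toMonoidHom) d.injective).le).symm
      exact hwW (h3 ▸ ⟨v, hvW, hdv⟩)
    have hVge : Nat.card W * Nat.card W ≤ Nat.card V := by
      rw [← Nat.card_prod]
      refine Nat.card_le_card_of_injective (fun o : W × W => (o.1 : V) * d (o.2 : V)) ?_
      rintro ⟨a, b⟩ ⟨a', b'⟩ h
      have h' : (a : V) * d (b : V) = a' * d (b' : V) := h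
      have h1 : ((a' : V))⁻¹ * a = d ((b' : V) * (b : V)⁻¹) := by
        rw [map_mul, map_inv, eq_mul_inv_iff_mul_eq, mul_assoc, h', inv_mul_cancel_left]
      have h2 : ((a' : V))⁻¹ * a = 1 := by
        rw [← Subgroup.mem_bot, ← hint]
        exact ⟨W.mul_mem (W.inv_mem a'.2) a.2, h1 ▸ ⟨_, W.mul_mem b'.2 (W.inv_mem b.2), rfl⟩⟩
      have h3 : a = a' := Subtype.ext (inv_mul_eq_one.1 h2).symm
      subst h3
      exact Prod.ext rfl (Subtype.ext (d.injective (mul_left_cancel h')))
    have hDle : Nat.card D ≤ Nat.card F * Nat.card F := by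
      haveI : F₀.Normal := Cores.fittingSubgroup_normal
      set ψ : ↥D →* MulAut F₀ := MulAut.conjNormal with hψ
      have hk : Nat.card ψ.ker ≤ Nat.card F₀ := by
        refine Subgroup.card_le_of_le fun x hx => Cores.centralizer_fittingSubgroup_le
          (Subgroup.mem_centralizer_iff.2 fun f hf => ?_)
        have h1 : (ψ x ⟨f, hf⟩ : F₀) = ⟨f, hf⟩ := by rw [MonoidHom.mem_ker.1 hx]; rfl
        have h2 := congrArg Subtype.val h1
        rw [hψ, MulAut.conjNormal_apply] at h2
        exact (mul_inv_eq_iff_eq_mul.1 h2).symm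
      rw [← Subgroup.card_mul_index ψ.ker, Subgroup.index_ker, hFcard]
      exact Nat.mul_le_mul hk ((Subgroup.card_le_card_group _).trans card_mulAut_le_of_isCyclic)
    have hVle : Nat.card V ≤ Nat.card D + 1 := by
      rw [← Finite.card_option]
      refine Nat.card_le_card_of_surjective
        (fun o : Option D => match o with | none => (1 : V) | some x => x.1 v) fun x => ?_
      by_cases hx : x = 1
      · exact ⟨none, hx.symm⟩
      · obtain ⟨g, hg, hgx⟩ := htrans v x hv1 hx
        exact ⟨some ⟨g, hg⟩, hgx⟩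
    have hFpos : 1 ≤ Nat.card F := Nat.card_pos
    nlinarith [Nat.mul_le_mul hFW hFW]

end Cfsg.Agent.Lib.OutSol3066.Linear
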